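import Cfsg.Agent.OddHalf.CaseM.RankOne
import Cfsg.Agent.OddHalf.M23.Lem
import Cfsg.Agent.S1265
import Cfsg.Agent.SignalizersComponents.PConstrained
import Cfsg.Agent.OddHalf.CaseM.End
import Cfsg.Agent.OddHalf.D8.MainE
import Cfsg.Agent.OddHalf.Front.OfSheet

-- merged: Cfsg.Agent.OddHalf.CaseC.Main
section

/-!
# Case (C) of D8: `C_K(z)^∞` quasisimple (helper971)

`Hyp z t P` describes the group `X = C_G(z)`, `z` a central involution, `P = C_X(t)^∞` quasisimple, `z ∈ P`.

`main`: either some sign character of `X` has value `-1` at `t`, or all the components of `X` are `t`-invariant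
and one of them contains `P`.
-/

set_option autoImplicit false
set_option linter.unusedSectionVars false

namespace Cfsg.Agent.OddHalf.CaseC

open Subgroup Cfsg
open scoped commutatorElement
open Cfsg.Agent.SignalizersComponents.Components
open Cfsg.Agent.Cit (cj mem_cj conj_mem_cj conj_mem_cj_iff cj_mul cj_one)

/-- the hypotheses on `X = C_G(z)` and the involution `t` -/
structure Hyp {X : Type*} [Group X] (z t : X) (P : Subgroup X) : Prop where
  zc : ∀ x, x * z = z * x
  zz : z * z = 1
  z1 : z ≠ 1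
  tt : t * t = 1
  t1 : t ≠ 1
  tP : t ∉ P
  zP : z ∈ P
  Pt : ∀ x ∈ P, x * t = t * x
  Pq : IsQuasisimple P
  Pn : ∀ x, x * t = t * x → ∀ p ∈ P, x * p * x⁻¹ ∈ P
  /-- `P` contains every perfect subgroup of `C(t)` -/
  res : ∀ S : Subgroup X, S ≤ centralizer ({t} : Set X) → ⁅S, S⁆ = S → S ≤ P
  core : pPrimeCore 2 X = ⊥

namespace Hyp

variable {X : Type*} [Group X] {z t : X} {P : Subgroup X}

theorem Pperf (h : Hyp z t P) : ⁅P, P⁆ = P := isPerfect_iff.1 h.Pq.1

theorem P_le_C (h : Hyp z t P) : P ≤ centralizer ({t} : Set X) := fun x hx =>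
  mem_centralizer_singleton_iff.2 (h.Pt x hx)

theorem tinv (h : Hyp z t P) : t⁻¹ = t := inv_eq_of_mul_eq_one_right h.tt

/-- `P` is a component of `C(t)` -/
theorem comp (h : Hyp z t P) : IsComponent (P.subgroupOf (centralizer ({t} : Set X))) := by
  have hn : (P.subgroupOf (centralizer ({t} : Set X))).Normal := by
    refine ⟨fun p hp g => ?_⟩
    rw [mem_subgroupOf] at hp ⊢
    exact h.Pn g (mem_centralizer_singleton_iff.1 g.2) p hp
  exact ⟨hn.isSubnormal, isQuasisimple_of_mulEquiv (subgroupOfEquivOfLe h.P_le_C).symm h.Pq⟩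

/-- `P` is nonabelian -/
theorem Pna (h : Hyp z t P) : ¬ ∀ a ∈ P, ∀ b ∈ P, a * b = b * a := by
  intro hab
  apply quasisimple_not_isMulCommutative h.Pq
  exact ⟨⟨fun a b => Subtype.ext (hab a a.2 b b.2)⟩⟩

/-- a subnormal subgroup of `C(t)` contains `P` or centralises `P` -/
theorem dich (h : Hyp z t P) {S : Subgroup X}
    (hS : (S.subgroupOf (centralizer ({t} : Set X))).IsSubnormal) :
    P ≤ S ∨ ∀ p ∈ P, ∀ s ∈ S, s * t = t * s → p * s = s * p := by
  rcases component_le_or_commutator_eq_bot h.comp hS with h1 | h1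
  · left
    intro p hp
    exact h1 (show (⟨p, h.P_le_C hp⟩ : centralizer ({t} : Set X)) ∈ P.subgroupOf _ from hp)
  · right
    intro p hp s hs hst
    rw [commutator_eq_bot_iff_le_centralizer] at h1
    have h2 := h1 (show (⟨p, h.P_le_C hp⟩ : centralizer ({t} : Set X)) ∈ P.subgroupOf _ from hp)
    have h3 := mem_centralizer_iff.1 h2 ⟨s, mem_centralizer_singleton_iff.2 hst⟩ hs
    exact (congrArg Subtype.val h3).symm

/-- `P` centralises `O₂(X)` -/
theorem comm_pCore [Finite X] (h : Hyp z t P) {p x : X} (hp : p ∈ P) (hx : x ∈ pCore 2 X) :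
    p * x = x * p := by
  have : Fact (Nat.Prime 2) := ⟨Nat.prime_two⟩
  have hn : (pCore 2 X).Normal := Cfsg.Agent.Lib.Cores.pCore_normal 2
  have hp2 : IsPGroup 2 (pCore 2 X) := Cfsg.Agent.Lib.Cores.pCore_isPGroup 2
  have key : ⁅P, pCore 2 X⁆ ≤ ⊥ := by
    refine Cfsg.Agent.OddHalf.M23.commutator_le_of_fix ⊥ P h.tt h.Pperf h.Pt ?_ ?_ _ (pCore 2 X) le_rfl hp2
      bot_le ?_ ?_ ?_ ?_
    · rw [normalizer_eq_top_iff.2 (inferInstance : (⊥ : Subgroup X).Normal)]; exact le_top
    · rw [normalizer_eq_top_iff.2 (inferInstance : (⊥ : Subgroup X).Normal)]; exact mem_top _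
    · rw [normalizer_eq_top_iff.2 (inferInstance : (⊥ : Subgroup X).Normal)]; exact le_top
    · rw [normalizer_eq_top_iff.2 hn]; exact le_top
    · rw [normalizer_eq_top_iff.2 hn]; exact mem_top _
    · intro y hy hyt q hq
      rw [mem_bot] at hyt ⊢
      have hyt' : y * t = t * y := by
        rw [mul_inv_eq_one, mul_inv_eq_iff_eq_mul] at hyt
        exact hyt
      rcases h.dich (S := pCore 2 X) hn.isSubnormal.subgroupOf with h1 | h1
      · exfalso
        have h2 : Group.IsNilpotent P := (hp2.to_le h1).isNilpotent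
        exact quasisimple_not_isSolvable h.Pq inferInstance
      · rw [h1 q hq y hy hyt']
        group
  have h1 := key (commutator_mem_commutator hp hx)
  rw [mem_bot, commutatorElement_def, mul_inv_eq_one, mul_inv_eq_iff_eq_mul] at h1
  exact h1

/-- some component is not centralised by `P` -/
theorem exists_component [Finite X] (h : Hyp z t P) :
    ∃ M : Subgroup X, IsComponent M ∧ ¬ P ≤ centralizer (M : Set X) := by
  by_contra hcon
  push Not at hcon
  apply h.Pna
  have h1 : P ≤ centralizer (generalizedFittingSubgroup X : Set X) := by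
    intro p hp
    have h2 : generalizedFittingSubgroup X ≤ centralizer ({p} : Set X) := by
      unfold generalizedFittingSubgroup
      rw [sup_le_iff]
      constructor
      · rw [layer_le_iff]
        intro M hM x hx
        rw [mem_centralizer_singleton_iff]
        exact mem_centralizer_iff.1 (hcon M hM hp) x hx
      · have : Fact (Nat.Prime 2) := ⟨Nat.prime_two⟩
        rw [Cfsg.Agent.SignalizersComponents.PConstrained.fittingSubgroup_eq_pCore_of_pPrimeCore_eq_bot 2
          h.core]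
        intro x hx
        rw [mem_centralizer_singleton_iff]
        exact (h.comm_pCore hp hx).symm
    rw [mem_centralizer_iff]
    intro x hx
    exact mem_centralizer_singleton_iff.1 (h2 hx)
  have h3 := h1.trans (Cfsg.Agent.S1265.result (G := X))
  intro a ha b hb
  exact (mem_centralizer_iff.1 (h1 ha) b (h3 hb)).symm

/-- the diagonal of two components swapped by `t` is `P` -/
theorem diag (h : Hyp z t P) {M : Subgroup X} (hM : IsComponent M) (hne : cj t M ≠ M) :
    P ≤ M ⊔ cj t M := by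
  obtain ⟨D, hD1, hD2, hD3, hD4, -⟩ := Cfsg.Agent.Cit.Comp.exists_diag hM h.tt hne
  have hDp : ⁅D, D⁆ = D := isPerfect_iff.1 hD4.1
  rcases h.dich hD3.1 with h1 | h1
  · exact h1.trans hD2
  · exfalso
    have h2 := h.res D hD1 hDp
    apply quasisimple_not_isMulCommutative hD4
    refine ⟨⟨fun a b => Subtype.ext ?_⟩⟩
    exact h1 a (h2 a.2) b b.2 (mem_centralizer_singleton_iff.1 (hD1 b.2))

/-- the permutation representation on the components -/
def permHom (X : Type*) [Group X] : X →* Equiv.Perm {M : Subgroup X // IsComponent M} where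
  toFun x :=
    { toFun := fun M => ⟨cj x M.1, Cfsg.Agent.Cit.Comp.isComponent_cj M.2 x⟩
      invFun := fun M => ⟨cj x⁻¹ M.1, Cfsg.Agent.Cit.Comp.isComponent_cj M.2 x⁻¹⟩
      left_inv := fun M => Subtype.ext (by
        change cj x⁻¹ (cj x M.1) = M.1
        rw [← cj_mul, inv_mul_cancel, cj_one])
      right_inv := fun M => Subtype.ext (by
        change cj x (cj x⁻¹ M.1) = M.1
        rw [← cj_mul, mul_inv_cancel, cj_one]) }
  map_one' := by
    ext M : 2
    change cj 1 M.1 = M.1
    rw [cj_one]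
  map_mul' x y := by
    ext M : 2
    change cj (x * y) M.1 = cj x (cj y M.1)
    rw [cj_mul]

theorem permHom_apply (x : X) (M : {M : Subgroup X // IsComponent M}) :
    ((permHom X x M : {M : Subgroup X // IsComponent M}) : Subgroup X) = cj x M.1 := rfl

/-- two components swapped by `t`: sign of the permutation of the components -/
theorem exists_sign [Finite X] (h : Hyp z t P) {M : Subgroup X} (hM : IsComponent M)
    (hne : cj t M ≠ M) : ∃ lam : X →* ℤˣ, lam t = -1 := by
  classical
  have hfin : Finite {M : Subgroup X // IsComponent M} := inferInstance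
  have : Fintype {M : Subgroup X // IsComponent M} := Fintype.ofFinite _
  refine ⟨Equiv.Perm.sign.comp (permHom X), ?_⟩
  have hMt : IsComponent (cj t M) := Cfsg.Agent.Cit.Comp.isComponent_cj hM t
  have htt : ∀ N : Subgroup X, cj t (cj t N) = N := fun N => by rw [← cj_mul, h.tt, cj_one]
  have key : permHom X t = Equiv.swap ⟨M, hM⟩ ⟨cj t M, hMt⟩ := by
    ext N : 2
    rw [permHom_apply]
    by_cases h1 : N = ⟨M, hM⟩
    · rw [h1, Equiv.swap_apply_left]
    by_cases h2 : N = ⟨cj t M, hMt⟩
    · rw [h2, Equiv.swap_apply_right]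
      exact htt M
    rw [Equiv.swap_apply_of_ne_of_ne h1 h2]
    by_contra h3
    have h1' : N.1 ≠ M := fun e => h1 (Subtype.ext e)
    have h2' : N.1 ≠ cj t M := fun e => h2 (Subtype.ext e)
    have hNt := Cfsg.Agent.Cit.Comp.isComponent_cj N.2 t
    have h4 : cj t N.1 ≠ M := fun e => h2' (by rw [← e, htt])
    have h5 : cj t N.1 ≠ cj t M := fun e => h1' (by rw [← htt N.1, e, htt])
    apply h.Pna
    intro a ha b hb
    have h6 := h.diag hM hne ha
    have h7 := h.diag N.2 h3 hb
    have h8 : M ⊔ cj t M ≤ centralizer ((N.1 ⊔ cj t N.1 : Subgroup X) : Set X) := by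
      have h9 : ∀ A B : Subgroup X, IsComponent A → IsComponent B → A ≠ B →
          ∀ b ∈ B, ∀ a ∈ A, b * a = a * b := fun A B hA hB hAB b hb a ha =>
        (Cfsg.Agent.Cit.Comp.comm_of_ne hA hB hAB ha hb).symm
      have h10 : ∀ A : Subgroup X, IsComponent A → N.1 ≠ A → cj t N.1 ≠ A →
          A ≤ centralizer ((N.1 ⊔ cj t N.1 : Subgroup X) : Set X) := by
        intro A hA hA1 hA2 a ha
        have h11 : N.1 ⊔ cj t N.1 ≤ centralizer ({a} : Set X) := by
          rw [sup_le_iff]
          exact ⟨fun b hb => mem_centralizer_singleton_iff.2 (h9 A N.1 hA N.2 hA1.symm b hb a ha),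
            fun b hb => mem_centralizer_singleton_iff.2 (h9 A _ hA hNt hA2.symm b hb a ha)⟩
        rw [mem_centralizer_iff]
        intro b hb
        exact mem_centralizer_singleton_iff.1 (h11 hb)
      exact sup_le (h10 M hM h1' h4) (h10 _ hMt h2' h5)
    exact (mem_centralizer_iff.1 (h8 h6) b h7).symm
  rw [MonoidHom.comp_apply, key, Equiv.Perm.sign_swap]
  intro e
  exact hne (congrArg Subtype.val e).symm

/-- the centre of a component lies in `O₂(X)` -/
theorem comm_center [Finite X] (h : Hyp z t P) {M : Subgroup X} (hM : IsComponent M) {p x : X}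
    (hp : p ∈ P) (hx : x ∈ M) (hxM : ∀ y ∈ M, x * y = y * x) : p * x = x * p := by
  apply h.comm_pCore hp
  have : Fact (Nat.Prime 2) := ⟨Nat.prime_two⟩
  rw [← Cfsg.Agent.SignalizersComponents.PConstrained.fittingSubgroup_eq_pCore_of_pPrimeCore_eq_bot 2 h.core]
  -- the centre of the layer
  have hlay : (layer X).Normal := layer_normal X
  have hn : ((center (layer X)).map (layer X).subtype).Normal := by
    have : (center (layer X)).Characteristic := inferInstance
    exact ConjAct.normal_of_characteristic_of_normal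
  have hnil : Group.IsNilpotent ((center (layer X)).map (layer X).subtype) := by
    have e := (center (layer X)).equivMapOfInjective (layer X).subtype (layer X).subtype_injective
    have : Group.IsNilpotent (center (layer X)) :=
      @CommGroup.isNilpotent (center (layer X))
        { (inferInstance : Group (center (layer X))) with
          mul_comm := fun a b => Subtype.ext ((mem_center_iff.1 b.2 a.1)) }
    exact (Group.isNilpotent_congr e).1 this
  have h1 : (center (layer X)).map (layer X).subtype ≤ fittingSubgroup X := le_sSup ⟨hn, hnil⟩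
  apply h1
  refine ⟨⟨x, component_le_layer hM hx⟩, ?_, rfl⟩
  show _ ∈ center (layer X)
  rw [mem_center_iff]
  rintro ⟨y, hy⟩
  apply Subtype.ext
  change y * x = x * y
  have h2 : layer X ≤ centralizer ({x} : Set X) := by
    rw [layer_le_iff]
    intro N hN y hy
    rw [mem_centralizer_singleton_iff]
    by_cases hNM : N = M
    · rw [hNM] at hy
      exact (hxM y hy).symm
    · exact Cfsg.Agent.Cit.Comp.comm_of_ne hN hM hNM hy hx
  exact mem_centralizer_singleton_iff.1 (h2 hy)

/-- `t` centralises some noncentral element of `M` modulo the centre -/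
theorem exists_fixed [Finite X] (h : Hyp z t P) {M : Subgroup X} (hM : IsComponent M)
    (htM : cj t M = M) : ∃ y ∈ M, (¬ ∀ x ∈ M, y * x = x * y) ∧ ∃ c ∈ M, (∀ x ∈ M, c * x = x * c) ∧
      t * y * t⁻¹ = y * c := by
  have htN : t ∈ normalizer (M : Set X) := by
    rw [Cfsg.Agent.Cit.mem_normalizer_iff_cj]; exact htM
  let τ : MulAut M := M.normalizerMonoidHom ⟨t, htN⟩
  have hτ : ∀ x : M, ((τ x : M) : X) = t * x * t⁻¹ := fun x => by
    rw [normalizerMonoidHom_apply_apply_coe]
  have hττ : ∀ x : M, τ (τ x) = x := by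
    intro x
    apply Subtype.ext
    rw [hτ, hτ]
    calc t * (t * x * t⁻¹) * t⁻¹ = (t * t) * x * (t * t)⁻¹ := by group
      _ = x := by rw [h.tt]; group
  have hcen : center M ≤ (center M).comap τ.toMonoidHom := by
    intro x hx
    have : (center M).Characteristic := inferInstance
    rw [← this.fixed τ] at hx
    exact hx
  let φ : M ⧸ center M →* M ⧸ center M := QuotientGroup.map (center M) (center M) τ.toMonoidHom hcen
  have hφ : ∀ x : M, φ (x : M ⧸ center M) = ((τ x : M) : M ⧸ center M) := fun x => rfl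
  by_contra hcon
  push Not at hcon
  have hfpf : MonoidHom.FixedPointFree φ := by
    intro g
    induction g using QuotientGroup.induction_on with
    | _ y =>
    intro hg
    rw [hφ, eq_comm, QuotientGroup.eq] at hg
    rw [QuotientGroup.eq_one_iff]
    by_contra hy
    have h1 : ¬ ∀ x ∈ M, (y : X) * x = x * y := by
      intro h2
      apply hy
      rw [mem_center_iff]
      intro x
      exact Subtype.ext (h2 x x.2).symm
    refine hcon y y.2 ?_ ((y : X)⁻¹ * (t * y * t⁻¹)) ?_ ?_ (by group)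
    · by_contra h2
      push Not at h2
      exact h1 h2
    · have := (y⁻¹ * τ y).2
      rw [Subgroup.coe_mul, Subgroup.coe_inv, hτ] at this
      exact this
    · intro x hx
      have h3 := mem_center_iff.1 hg ⟨x, hx⟩
      have h4 := congrArg Subtype.val h3
      simp only [Subgroup.coe_mul, Subgroup.coe_inv, hτ] at h4
      exact h4.symm
  have hinv : Function.Involutive φ := by
    intro g
    induction g using QuotientGroup.induction_on with
    | _ y => rw [hφ, hφ, hττ]
  have hab := hfpf.commute_all_of_involutive hinv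
  have hs := hM.2.2
  -- `M / Z(M)` is abelian, so `M' ≤ Z(M)`, and `M` is perfect
  apply quasisimple_not_isMulCommutative hM.2
  have hp : commutator M = ⊤ := hM.2.1.commutator_eq_top
  have h5 : commutator M ≤ center M := by
    rw [commutator_def, commutator_le]
    intro a _ b _
    rw [← QuotientGroup.eq_one_iff, commutatorElement_def]
    have h6 := hab (a : M ⧸ center M) (b : M ⧸ center M)
    rw [QuotientGroup.mk_mul, QuotientGroup.mk_mul, QuotientGroup.mk_mul, h6.eq, QuotientGroup.mk_inv,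
      QuotientGroup.mk_inv]
    group
  rw [hp] at h5
  refine ⟨⟨fun a b => ?_⟩⟩
  exact (mem_center_iff.1 (h5 (mem_top b)) a)

/-- `P` normalises the components -/
theorem cj_eq [Finite X] (h : Hyp z t P) {M : Subgroup X} (hM : IsComponent M)
    (htM : cj t M = M) : ∀ p ∈ P, cj p M = M := by
  have hlay : (layer X).Normal := layer_normal X
  rcases h.dich (S := layer X) hlay.isSubnormal.subgroupOf with h1 | h1
  · intro p hp
    exact Cfsg.Agent.Cit.mem_normalizer_iff_cj.1 (layer_le_normalizer_component hM (h1 hp))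
  obtain ⟨y, hyM, hyc, c, hcM, hcc, hyt⟩ := h.exists_fixed hM htM
  have hpc : ∀ p ∈ P, p * c = c * p := fun p hp => h.comm_center hM hp hcM hcc
  have hyL : y ∈ layer X := component_le_layer hM hyM
  -- `p y p⁻¹ y⁻¹ ∈ C(t) ∩ E(X)`
  have hcom : ∀ p ∈ P, p * y * p⁻¹ * y⁻¹ * t = t * (p * y * p⁻¹ * y⁻¹) := by
    intro p hp
    have h2 : t * p * t⁻¹ = p := by rw [← h.Pt p hp, mul_inv_cancel_right]
    have h3 : t * (p * y * p⁻¹ * y⁻¹) * t⁻¹ = p * y * p⁻¹ * y⁻¹ := by
      calc t * (p * y * p⁻¹ * y⁻¹) * t⁻¹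
          = (t * p * t⁻¹) * (t * y * t⁻¹) * (t * p * t⁻¹)⁻¹ * (t * y * t⁻¹)⁻¹ := by group
        _ = p * (y * c) * p⁻¹ * (y * c)⁻¹ := by rw [h2, hyt]
        _ = p * y * (c * p⁻¹) * c⁻¹ * y⁻¹ := by group
        _ = p * y * (p⁻¹ * c) * c⁻¹ * y⁻¹ := by rw [hpc p⁻¹ (P.inv_mem hp)]
        _ = p * y * p⁻¹ * y⁻¹ := by group
    rw [mul_inv_eq_iff_eq_mul] at h3
    exact h3.symm
  have hmem : ∀ p ∈ P, p * y * p⁻¹ * y⁻¹ ∈ layer X := fun p hp =>
    (layer X).mul_mem (hlay.conj_mem y hyL p) ((layer X).inv_mem hyL)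
  have hPc : ∀ p ∈ P, ∀ q ∈ P, q * (p * y * p⁻¹ * y⁻¹) = p * y * p⁻¹ * y⁻¹ * q := fun p hp q hq =>
    h1 q hq _ (hmem p hp) (hcom p hp)
  let f : P →* X :=
    { toFun := fun p => ((p : X) * y * (p : X)⁻¹ * y⁻¹)⁻¹
      map_one' := by simp
      map_mul' := fun a b => by
        have h2 := hPc b b.2 a a.2
        rw [← mul_inv_rev]
        congr 1
        simp only [Subgroup.coe_mul]
        calc (a : X) * b * y * ((a : X) * b)⁻¹ * y⁻¹
            = a * (b * y * (b : X)⁻¹ * y⁻¹) * (y * (a : X)⁻¹ * y⁻¹) := by group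
          _ = (b * y * (b : X)⁻¹ * y⁻¹) * a * (y * (a : X)⁻¹ * y⁻¹) := by rw [h2]
          _ = (b * y * (b : X)⁻¹ * y⁻¹) * (a * y * (a : X)⁻¹ * y⁻¹) := by group }
  have hf : ∀ p : P, f p = ((p : X) * y * (p : X)⁻¹ * y⁻¹)⁻¹ := fun _ => rfl
  have hrt : f.range ≤ centralizer ({t} : Set X) := by
    rintro _ ⟨p, rfl⟩
    rw [hf]
    exact (centralizer ({t} : Set X)).inv_mem (mem_centralizer_singleton_iff.2 (hcom p p.2))
  have hrp : ⁅f.range, f.range⁆ = f.range := by
    have h2 : commutator P = ⊤ := h.Pq.1.commutator_eq_top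
    rw [MonoidHom.range_eq_map, ← map_commutator, ← _root_.commutator_def, h2]
  have hrP : f.range ≤ P := h.res _ hrt hrp
  have hrb : f.range = ⊥ := by
    rw [← hrp, commutator_eq_bot_iff_le_centralizer]
    intro a ha
    rw [mem_centralizer_iff]
    rintro _ ⟨q, rfl⟩
    have h3 := hPc q q.2 a (hrP ha)
    rw [hf, inv_mul_eq_iff_eq_mul, ← mul_assoc, ← h3]
    group
  have hyP : ∀ p ∈ P, p * y = y * p := by
    intro p hp
    have h2 : f ⟨p, hp⟩ ∈ f.range := ⟨_, rfl⟩
    rw [hrb, mem_bot, hf, inv_eq_one] at h2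
    rw [mul_inv_eq_one, mul_inv_eq_iff_eq_mul] at h2
    exact h2
  intro p hp
  by_contra hne
  apply hyc
  intro x hx
  have h2 : y ∈ cj p M := by
    have h3 := conj_mem_cj (g := p) hyM
    rwa [hyP p hp, mul_inv_cancel_right] at h3
  exact Cfsg.Agent.Cit.Comp.comm_of_ne (Cfsg.Agent.Cit.Comp.isComponent_cj hM p) hM hne h2 hx

/-- `P` lies in the component which it does not centralise -/
theorem P_le [Finite X] (h : Hyp z t P) {M : Subgroup X} (hM : IsComponent M) (htM : cj t M = M)
    (hSch : P ≤ M ⊔ centralizer (M : Set X)) (hnc : ¬ P ≤ centralizer (M : Set X)) : P ≤ M := by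
  set Y : Subgroup X := centralizer (M : Set X) with hY
  have hMY : ∀ x ∈ M, ∀ y ∈ Y, x * y = y * x := fun x hx y hy => mem_centralizer_iff.1 hy x hx
  have htm : ∀ m ∈ M, t * m * t⁻¹ ∈ M := fun m hm => by
    have := conj_mem_cj (g := t) hm
    rwa [htM] at this
  have hcN : ∀ g, cj g M = M → ∀ c ∈ Y, g * c * g⁻¹ ∈ Y := by
    intro g hg c hc
    rw [hY, mem_centralizer_iff]
    intro m hm
    have h1 : g⁻¹ * m * g ∈ M := by rw [← mem_cj, hg]; exact hm
    have h2 := hMY _ h1 c hc
    calc m * (g * c * g⁻¹) = g * (g⁻¹ * m * g * c) * g⁻¹ := by group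
      _ = g * (c * (g⁻¹ * m * g)) * g⁻¹ := by rw [h2]
      _ = g * c * g⁻¹ * m := by group
  rcases h.dich (S := M) hM.1.subgroupOf with h1 | h1
  · exact h1
  exfalso
  apply hnc
  -- decomposition
  have hdec : ∀ p ∈ P, ∃ m ∈ M, ∃ c ∈ Y, m * c = p ∧ ∃ e ∈ M, e ∈ Y ∧ t * m * t⁻¹ = m * e := by
    intro p hp
    obtain ⟨m, hm, c, hc, hmc⟩ := Cfsg.Agent.Cit.Comp.mem_sup_comm hMY (hSch hp)
    refine ⟨m, hm, c, hc, hmc, m⁻¹ * (t * m * t⁻¹), M.mul_mem (M.inv_mem hm) (htm m hm), ?_, by group⟩
    have h2 : (t * m * t⁻¹) * (t * c * t⁻¹) = m * c := by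
      have h3 := h.Pt p hp
      rw [← hmc] at h3
      calc (t * m * t⁻¹) * (t * c * t⁻¹) = t * (m * c) * t⁻¹ := by group
        _ = m * c := by rw [← h3, mul_inv_cancel_right]
    have h4 : m⁻¹ * (t * m * t⁻¹) = c * (t * c * t⁻¹)⁻¹ := by
      rw [eq_mul_inv_iff_mul_eq, mul_assoc, h2, inv_mul_cancel_left]
    rw [h4]
    exact Y.mul_mem hc (Y.inv_mem (hcN t htM c hc))
  set U : Subgroup X := (M ⊓ centralizer ({t} : Set X)) ⊔ Y with hU
  have hUd : ∀ x ∈ M ⊓ centralizer ({t} : Set X), ∀ y ∈ Y, x * y = y * x := fun x hx y hy =>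
    hMY x hx.1 y hy
  -- `⁅P, P⁆ ≤ U`
  have hPU : ⁅P, P⁆ ≤ U := by
    rw [commutator_le]
    intro p hp q hq
    obtain ⟨m, hm, c, hc, rfl, e, heM, heY, hme⟩ := hdec p hp
    obtain ⟨n, hn, d, hd, rfl, f, hfM, hfY, hnf⟩ := hdec q hq
    have cmd : Commute m d := hMY m hm d hd
    have cnc : Commute n c := hMY n hn c hc
    have h2 : ⁅m * c, n * d⁆ = ⁅m, n⁆ * ⁅c, d⁆ := by
      rw [commutatorElement_def, commutatorElement_def, commutatorElement_def]
      calc m * c * (n * d) * (m * c)⁻¹ * (n * d)⁻¹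
          = m * (c * n) * d * c⁻¹ * m⁻¹ * d⁻¹ * n⁻¹ := by group
        _ = m * (n * c) * d * c⁻¹ * m⁻¹ * d⁻¹ * n⁻¹ := by rw [cnc.eq]
        _ = m * n * (c * d * c⁻¹) * (m⁻¹ * d⁻¹) * n⁻¹ := by group
        _ = m * n * (c * d * c⁻¹) * (d⁻¹ * m⁻¹) * n⁻¹ := by rw [(cmd.inv_inv).eq]
        _ = m * n * ((c * d * c⁻¹ * d⁻¹) * (m⁻¹ * n⁻¹)) := by group
        _ = m * n * ((m⁻¹ * n⁻¹) * (c * d * c⁻¹ * d⁻¹)) := by
          have h3 : (m⁻¹ * n⁻¹) * (c * d * c⁻¹ * d⁻¹) = (c * d * c⁻¹ * d⁻¹) * (m⁻¹ * n⁻¹) :=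
            hMY _ (M.mul_mem (M.inv_mem hm) (M.inv_mem hn)) _
              (Y.mul_mem (Y.mul_mem (Y.mul_mem hc hd) (Y.inv_mem hc)) (Y.inv_mem hd))
          rw [h3]
        _ = m * n * m⁻¹ * n⁻¹ * (c * d * c⁻¹ * d⁻¹) := by group
    rw [h2]
    refine U.mul_mem (mem_sup_left ⟨?_, ?_⟩) (mem_sup_right ?_)
    · rw [commutatorElement_def]
      exact M.mul_mem (M.mul_mem (M.mul_mem hm hn) (M.inv_mem hm)) (M.inv_mem hn)
    · refine mem_centralizer_singleton_iff.2 ?_
      have h3 : t * ⁅m, n⁆ * t⁻¹ = ⁅m, n⁆ := by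
        rw [commutatorElement_def]
        have cef : Commute e f := hMY e heM f hfY
        have cem : Commute m e := hMY m hm e heY
        have cen : Commute n e := hMY n hn e heY
        have cfm : Commute m f := hMY m hm f hfY
        have cfn : Commute n f := hMY n hn f hfY
        calc t * (m * n * m⁻¹ * n⁻¹) * t⁻¹
            = (t * m * t⁻¹) * (t * n * t⁻¹) * (t * m * t⁻¹)⁻¹ * (t * n * t⁻¹)⁻¹ := by group
          _ = m * e * (n * f) * (m * e)⁻¹ * (n * f)⁻¹ := by rw [hme, hnf]
          _ = m * (e * n) * f * (e⁻¹ * m⁻¹) * (f⁻¹ * n⁻¹) := by group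
          _ = m * (n * e) * f * (e⁻¹ * m⁻¹) * (f⁻¹ * n⁻¹) := by rw [cen.eq]
          _ = m * n * (e * f) * e⁻¹ * (m⁻¹ * f⁻¹) * n⁻¹ := by group
          _ = m * n * (f * e) * e⁻¹ * (f⁻¹ * m⁻¹) * n⁻¹ := by rw [cef.eq, (cfm.inv_inv).eq]
          _ = m * n * m⁻¹ * n⁻¹ := by group
      rw [mul_inv_eq_iff_eq_mul] at h3
      exact h3.symm
    · rw [commutatorElement_def]
      exact Y.mul_mem (Y.mul_mem (Y.mul_mem hc hd) (Y.inv_mem hc)) (Y.inv_mem hd)
  have hPM := h.cj_eq hM htM
  have h2 : ⁅⁅P, P⁆, P⁆ ≤ Y := by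
    rw [commutator_le]
    intro x hx p hp
    obtain ⟨a, ha, c, hc, rfl⟩ := Cfsg.Agent.Cit.Comp.mem_sup_comm hUd (hPU hx)
    have hpa : p * a = a * p := h1 p hp a ha.1 (mem_centralizer_singleton_iff.1 ha.2)
    have cpa : Commute p a := hpa
    have h3 : ⁅a * c, p⁆ = a * (c * (p * c⁻¹ * p⁻¹)) * a⁻¹ := by
      rw [commutatorElement_def]
      calc a * c * p * (a * c)⁻¹ * p⁻¹ = a * c * p * c⁻¹ * (a⁻¹ * p⁻¹) := by group
        _ = a * c * p * c⁻¹ * (p⁻¹ * a⁻¹) := by rw [(cpa.inv_inv).eq]
        _ = a * (c * (p * c⁻¹ * p⁻¹)) * a⁻¹ := by group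
    have h4 : c * (p * c⁻¹ * p⁻¹) ∈ Y := Y.mul_mem hc (hcN p (hPM p hp) _ (Y.inv_mem hc))
    rw [h3, hMY a ha.1 _ h4, mul_inv_cancel_right]
    exact h4
  rw [h.Pperf, h.Pperf] at h2
  exact h2

/-- **the theorem** -/
theorem main [Finite X] (h : Hyp z t P)
    (hSch : ∀ M : Subgroup X, IsComponent M → (∀ p ∈ P, cj p M = M) →
      P ≤ M ⊔ centralizer (M : Set X)) :
    (∃ lam : X →* ℤˣ, lam t = -1) ∨
      ((∀ N : Subgroup X, IsComponent N → cj t N = N) ∧ ∃ M : Subgroup X, IsComponent M ∧ P ≤ M) := by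
  by_cases hall : ∀ N : Subgroup X, IsComponent N → cj t N = N
  · right
    refine ⟨hall, ?_⟩
    obtain ⟨M, hM, hnc⟩ := h.exists_component
    exact ⟨M, hM, h.P_le hM (hall M hM) (hSch M hM (h.cj_eq hM (hall M hM))) hnc⟩
  · left
    push Not at hall
    obtain ⟨N, hN, hne⟩ := hall
    exact h.exists_sign hN hne

end Hyp

end Cfsg.Agent.OddHalf.CaseC

end

-- merged: Cfsg.Agent.OddHalf.CaseC.End
section

/-!
# Case (C) of D8, `Z(P) = {1, z}` (helper971)

`Hyp2 z t P`: `Hyp`, the centralizer of `P` in `C_X(t)` is `{1, z, t, tz}`, every automorphism of `P` is inner, some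
element of `X` maps `t` to `t z`, and `t` lies in the commutator subgroup of `X`.

`main2`: there is a normal component `M ≥ P` of `X`, and either `t ∈ M` and `C_X(M) = {1, z}`, or
`t ∉ M C_X(M)`.
-/

set_option autoImplicit false
set_option linter.unusedSectionVars false

namespace Cfsg.Agent.OddHalf.CaseC

open Subgroup Cfsg
open scoped commutatorElement
open Cfsg.Agent.SignalizersComponents.Components
open Cfsg.Agent.Cit (cj mem_cj conj_mem_cj conj_mem_cj_iff cj_mul cj_one)

/-- Thompson transfer, as a sign -/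
theorem exists_sign_of_index_two {B : Type*} [Group B] [Finite B] {z t : B} (hz : z * z = 1) (hz1 : z ≠ 1)
    (ht : t * t = 1) (ht1 : t ≠ 1) (htz : t ≠ z) (hzc : ∀ x, x * z = z * x)
    (hC : ∀ x, x * t = t * x → x = 1 ∨ x = z ∨ x = t ∨ x = t * z) : ∃ f : B →* ℤˣ, f t = -1 := by
  classical
  have : Fact (Nat.Prime 2) := ⟨Nat.prime_two⟩
  have hp : IsPGroup 2 (zpowers t) := IsPGroup.of_card (n := 1) (by
    rw [Nat.card_zpowers, pow_one]; exact orderOf_eq_prime (by rw [pow_two, ht]) ht1)
  have hpz : IsPGroup 2 (zpowers z) := IsPGroup.of_card (n := 1) (by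
    rw [Nat.card_zpowers, pow_one]; exact orderOf_eq_prime (by rw [pow_two, hz]) hz1)
  obtain ⟨T, hT⟩ := hp.exists_le_sylow
  have htT : t ∈ (T : Subgroup B) := hT (mem_zpowers t)
  have hzT : z ∈ (T : Subgroup B) := by
    have h1 : IsPGroup 2 (((T : Subgroup B) ⊔ zpowers z : Subgroup B)) := by
      have hn : (zpowers z).Normal := by
        refine ⟨fun n hn g => ?_⟩
        obtain ⟨k, rfl⟩ := mem_zpowers_iff.1 hn
        have : Commute g (z ^ k) := (show Commute g z from hzc g).zpow_right k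
        rw [this.eq, mul_inv_cancel_right]
        exact zpow_mem (mem_zpowers z) k
      exact IsPGroup.to_sup_of_normal_right T.2 hpz
    have h2 := T.is_maximal' h1 le_sup_left
    rw [← h2]
    exact (le_sup_right : zpowers z ≤ _) (mem_zpowers z)
  obtain ⟨C, hCi, hCu⟩ := Cfsg.Agent.OddHalf.CaseM.exists_index_two (W := (T : Subgroup B)) T.2
    (z := ⟨z, hzT⟩) (t := ⟨t, htT⟩) (Subtype.ext hz) (fun e => hz1 (congrArg Subtype.val e))
    (Subtype.ext ht) (fun e => ht1 (congrArg Subtype.val e)) (fun e => htz (congrArg Subtype.val e))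
    (fun x => Subtype.ext (hzc x)) (by
      intro x hx
      rcases hC x (congrArg Subtype.val hx) with h | h | h | h
      · exact Or.inl (Subtype.ext h)
      · exact Or.inr (Or.inl (Subtype.ext h))
      · exact Or.inr (Or.inr (Or.inl (Subtype.ext h)))
      · exact Or.inr (Or.inr (Or.inr (Subtype.ext h))))
  set Q : Subgroup B := C.map (T : Subgroup B).subtype with hQ
  have hQT : Q ≤ (T : Subgroup B) := map_subtype_le _
  have hQi : Q.relIndex (T : Subgroup B) = 2 := by
    rw [relIndex, hQ, subgroupOf, comap_map_eq_self_of_injective (subtype_injective _)]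
    exact hCi
  have hnc : ∀ g : B, g * t * g⁻¹ ∉ Q := by
    rintro g ⟨x, hx, hxg⟩
    have hxx : x * x = 1 := by
      apply Subtype.ext
      have h1 : ((x : (T : Subgroup B)) : B) = g * t * g⁻¹ := hxg
      rw [Subgroup.coe_mul, h1]
      calc g * t * g⁻¹ * (g * t * g⁻¹) = g * (t * t) * g⁻¹ := by group
        _ = 1 := by rw [ht]; group
    have h1 : ((x : (T : Subgroup B)) : B) = g * t * g⁻¹ := hxg
    rcases hCu x hx hxx with h | h
    · rw [h] at h1
      apply ht1
      have h2 : t = g⁻¹ * (g * t * g⁻¹) * g := by group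
      rw [h2, ← h1]
      simp
    · rw [h] at h1
      apply htz
      have h2 : t = g⁻¹ * (g * t * g⁻¹) * g := by group
      have h3 : ((⟨z, hzT⟩ : (T : Subgroup B)) : B) = z := rfl
      rw [h3] at h1
      rw [h2, ← h1, mul_assoc, ← hzc g, inv_mul_cancel_left]
  obtain ⟨m, hm, hm'⟩ := Cfsg.Agent.Transfer.ThompsonTransfer.exists_index_eq T Q hQT hQi
  exact Cfsg.Agent.Transfer.ThompsonTransfer.exists_hom_eq_neg_one Q hm hm' t (by rw [pow_two, ht]) hnc

/-- the additional hypotheses -/
structure Hyp2 {X : Type*} [Group X] (z t : X) (P : Subgroup X) : Prop extends Hyp z t P where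
  cP : ∀ x, x * t = t * x → (∀ p ∈ P, x * p = p * x) → x = 1 ∨ x = z ∨ x = t ∨ x = t * z
  outP : ∀ β : MulAut P, ∃ p : P, β = MulAut.conj p
  swap : ∃ x, x * t * x⁻¹ = t * z
  com : t ∈ commutator X

namespace Hyp2

variable {X : Type*} [Group X] {z t : X} {P : Subgroup X}

theorem no_sign (h : Hyp2 z t P) (f : X →* ℤˣ) : f t ≠ -1 := by
  intro h1
  have h2 : commutator X ≤ f.ker := Abelianization.commutator_subset_ker f
  have h3 := h2 h.com
  rw [MonoidHom.mem_ker, h1] at h3
  exact absurd h3 (by decide)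

theorem t_ne_z (h : Hyp2 z t P) : t ≠ z := fun e => h.tP (e ▸ h.zP)

/-- a component centralised by `P` has `z` as its only involution -/
theorem unique [Finite X] (h : Hyp2 z t P) {N : Subgroup X} (hN : IsComponent N) (htN : cj t N = N)
    (hev : 2 ∣ Nat.card N) (hPN : P ≤ centralizer (N : Set X)) :
    z ∈ N ∧ ∀ v ∈ N, v * v = 1 → v = 1 ∨ v = z := by
  refine Cfsg.Agent.OddHalf.CaseM.unique_involution h.zz h.z1 h.tt h.t1 h.t_ne_z h.zc hN hev ?_ ?_
  · intro x hx
    have := conj_mem_cj (g := t) hx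
    rwa [htN] at this
  · intro x hx hxt
    exact h.cP x hxt (fun p hp => mem_centralizer_iff.1 (hPN hp) x hx)

/-- a subgroup which is a component and centralised by `t` is `P` -/
theorem le_P (h : Hyp2 z t P) {M : Subgroup X} (hM : IsComponent M) (hMt : ∀ x ∈ M, x * t = t * x) : M ≤ P :=
  h.res M (fun x hx => mem_centralizer_singleton_iff.2 (hMt x hx)) (component_commutator_self hM)

/-- `P` is not a normal component -/
theorem false_of_normal [Finite X] (h : Hyp2 z t P) (hn : P.Normal) : False := by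
  classical
  set B : Subgroup X := centralizer (P : Set X) with hB
  have hPB : ∀ p ∈ P, ∀ b ∈ B, p * b = b * p := fun p hp b hb => mem_centralizer_iff.1 hb p hp
  have htB : t ∈ B := by
    rw [hB, mem_centralizer_iff]
    exact fun p hp => h.Pt p hp
  have hzB : z ∈ B := by
    rw [hB, mem_centralizer_iff]
    exact fun p _ => h.zc p
  -- `X = P B`
  have hdec : ∀ x : X, ∃ p ∈ P, ∃ b ∈ B, x = p * b := by
    intro x
    obtain ⟨p, hp⟩ := h.outP (MulAut.conjNormal x)
    refine ⟨p, p.2, (p : X)⁻¹ * x, ?_, by group⟩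
    rw [hB, mem_centralizer_iff]
    intro y hy
    have h1 := congrArg (fun f : MulAut P => ((f ⟨y, hy⟩ : P) : X)) hp
    simp only [MulAut.conjNormal_apply, MulAut.conj_apply] at h1
    have h2 : x * y * x⁻¹ = (p : X) * y * (p : X)⁻¹ := h1
    calc y * ((p : X)⁻¹ * x) = (p : X)⁻¹ * ((p : X) * y * (p : X)⁻¹) * x := by group
      _ = (p : X)⁻¹ * (x * y * x⁻¹) * x := by rw [h2]
      _ = (p : X)⁻¹ * x * y := by group
  have hcap : ∀ y, y ∈ P → y ∈ B → y = 1 ∨ y = z := by
    intro y hyP hyB
    rcases h.cP y (h.Pt y hyP) (fun p hp => (hPB p hp y hyB).symm) with e | e | e | e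
    · exact Or.inl e
    · exact Or.inr e
    · exact absurd (e ▸ hyP) h.tP
    · exfalso
      apply h.tP
      have h1 : t = y * z := by rw [e, mul_assoc, h.zz, mul_one]
      rw [h1]
      exact P.mul_mem hyP h.zP
  -- the sign of `B`
  obtain ⟨f, hf⟩ := exists_sign_of_index_two (B := B) (z := ⟨z, hzB⟩) (t := ⟨t, htB⟩) (Subtype.ext h.zz)
    (fun e => h.z1 (congrArg Subtype.val e)) (Subtype.ext h.tt) (fun e => h.t1 (congrArg Subtype.val e))
    (fun e => h.t_ne_z (congrArg Subtype.val e)) (fun x => Subtype.ext (h.zc x)) (by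
      intro x hx
      rcases h.cP x (congrArg Subtype.val hx) (fun p hp => (hPB p hp x x.2).symm) with e | e | e | e
      · exact Or.inl (Subtype.ext e)
      · exact Or.inr (Or.inl (Subtype.ext e))
      · exact Or.inr (Or.inr (Or.inl (Subtype.ext e)))
      · exact Or.inr (Or.inr (Or.inr (Subtype.ext e))))
  -- `f z = 1`
  obtain ⟨x, hx⟩ := h.swap
  obtain ⟨p, hp, b, hb, rfl⟩ := hdec x
  have hbt : b * t * b⁻¹ = t * z := by
    have h1 : p * (b * t * b⁻¹) * p⁻¹ = t * z := by rw [← hx]; group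
    have h2 : b * t * b⁻¹ = p⁻¹ * (t * z) * p := by rw [← h1]; group
    rw [h2]
    calc p⁻¹ * (t * z) * p = p⁻¹ * (t * (z * p)) := by group
      _ = p⁻¹ * (t * p * z) := by rw [← h.zc p]; group
      _ = p⁻¹ * (p * t * z) := by rw [h.Pt p hp]
      _ = t * z := by group
  have hfz : f ⟨z, hzB⟩ = 1 := by
    have h1 : (⟨b, hb⟩ : B) * ⟨t, htB⟩ * (⟨b, hb⟩ : B)⁻¹ = ⟨t, htB⟩ * ⟨z, hzB⟩ := Subtype.ext hbt
    have h2 := congrArg f h1
    rw [map_mul, map_mul, map_mul, map_inv, mul_comm (f ⟨b, hb⟩), mul_inv_cancel_right] at h2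
    exact (mul_eq_left.1 h2.symm)
  -- extension to `X`
  choose pp hpp bb hbb hxx using hdec
  have hwd : ∀ (p : X) (_ : p ∈ P) (b : X) (hb : b ∈ B), f ⟨bb (p * b), hbb (p * b)⟩ = f ⟨b, hb⟩ := by
    intro p hp b hb
    have h1 := hxx (p * b)
    have h2 : bb (p * b) * b⁻¹ = (pp (p * b))⁻¹ * p := by
      have h3 : (pp (p * b))⁻¹ * (p * b) = bb (p * b) := by
        rw [inv_mul_eq_iff_eq_mul]; exact h1
      calc bb (p * b) * b⁻¹ = (pp (p * b))⁻¹ * (p * b) * b⁻¹ := by rw [h3]
        _ = (pp (p * b))⁻¹ * p := by group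
    have h3 : bb (p * b) * b⁻¹ = 1 ∨ bb (p * b) * b⁻¹ = z := by
      apply hcap
      · rw [h2]
        exact P.mul_mem (P.inv_mem (hpp _)) hp
      · exact B.mul_mem (hbb _) (B.inv_mem hb)
    have h4 : f ⟨bb (p * b) * b⁻¹, B.mul_mem (hbb _) (B.inv_mem hb)⟩ = 1 := by
      rcases h3 with e | e
      · have : (⟨bb (p * b) * b⁻¹, B.mul_mem (hbb _) (B.inv_mem hb)⟩ : B) = 1 := Subtype.ext e
        rw [this, map_one]
      · have : (⟨bb (p * b) * b⁻¹, B.mul_mem (hbb _) (B.inv_mem hb)⟩ : B) = ⟨z, hzB⟩ := Subtype.ext e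
        rw [this, hfz]
    have h5 : (⟨bb (p * b), hbb (p * b)⟩ : B) =
        ⟨bb (p * b) * b⁻¹, B.mul_mem (hbb _) (B.inv_mem hb)⟩ * ⟨b, hb⟩ := by
      apply Subtype.ext
      simp
    rw [h5, map_mul, h4, one_mul]
  let g : X →* ℤˣ :=
    { toFun := fun x => f ⟨bb x, hbb x⟩
      map_one' := by
        have h1 := hwd 1 P.one_mem 1 B.one_mem
        rw [one_mul] at h1
        rw [h1]
        exact map_one f
      map_mul' := fun x y => by
        have h1 : x * y = (pp x * pp y) * (bb x * bb y) := by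
          conv_lhs => rw [hxx x, hxx y]
          have h2 := hPB (pp y) (hpp y) (bb x) (hbb x)
          calc pp x * bb x * (pp y * bb y) = pp x * (bb x * pp y) * bb y := by group
            _ = pp x * (pp y * bb x) * bb y := by rw [h2]
            _ = _ := by group
        have h3 := hwd (pp x * pp y) (P.mul_mem (hpp x) (hpp y)) (bb x * bb y)
          (B.mul_mem (hbb x) (hbb y))
        rw [← h1] at h3
        rw [h3, ← map_mul]
        rfl }
  have hg : g t = -1 := by
    have h1 := hwd 1 P.one_mem t htB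
    rw [one_mul] at h1
    show f ⟨bb t, hbb t⟩ = -1
    rw [h1, hf]
  exact h.no_sign g hg

/-- **main theorem, case `Z(P) = {1, z}`** -/
theorem main2 [Finite X] (h : Hyp2 z t P)
    (hSch : ∀ M : Subgroup X, IsComponent M → (∀ p ∈ P, cj p M = M) →
      P ≤ M ⊔ centralizer (M : Set X))
    (hev : ∀ N : Subgroup X, IsComponent N → 2 ∣ Nat.card N)
    (hquat : ∀ N : Subgroup X, IsComponent N → z ∈ N → ¬ ∀ v ∈ N, v * v = 1 → v = 1 ∨ v = z) :
    ∃ M : Subgroup X, IsComponent M ∧ M.Normal ∧ P ≤ M ∧ z ∈ M ∧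
      ((t ∈ M ∧ ∀ y ∈ centralizer (M : Set X), y = 1 ∨ y = z) ∨
        t ∉ M ⊔ centralizer (M : Set X)) := by
  rcases h.toHyp.main hSch with ⟨lam, hlam⟩ | ⟨hall, M, hM, hPM⟩
  · exact absurd hlam (h.no_sign lam)
  -- `M` is the only component
  have huniq : ∀ N : Subgroup X, IsComponent N → N = M := by
    intro N hN
    by_contra hne
    have hPN : P ≤ centralizer (N : Set X) := by
      intro p hp
      rw [mem_centralizer_iff]
      intro x hx
      exact Cfsg.Agent.Cit.Comp.comm_of_ne hN hM hne hx (hPM hp)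
    obtain ⟨h1, h2⟩ := h.unique hN (hall N hN) (hev N hN) hPN
    exact hquat N hN h1 h2
  have hMn : M.Normal := by
    refine ⟨fun x hx g => ?_⟩
    have h1 := conj_mem_cj (g := g) hx
    rwa [huniq _ (Cfsg.Agent.Cit.Comp.isComponent_cj hM g)] at h1
  have hMY : ∀ x ∈ M, ∀ y ∈ centralizer (M : Set X), x * y = y * x := fun x hx y hy =>
    mem_centralizer_iff.1 hy x hx
  -- `t` does not centralise `M`
  have htY : ¬ ∀ x ∈ M, x * t = t * x := by
    intro h1
    have h2 := h.le_P hM h1
    have h3 : M = P := le_antisymm h2 hPM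
    rw [h3] at hMn
    exact h.false_of_normal hMn
  refine ⟨M, hM, hMn, hPM, hPM h.zP, ?_⟩
  by_cases htM : t ∈ M ⊔ centralizer (M : Set X)
  · left
    obtain ⟨m, hm, c, hc, hmc⟩ := Cfsg.Agent.Cit.Comp.mem_sup_comm hMY htM
    have hm' : m = t * c⁻¹ := by rw [← hmc, mul_inv_cancel_right]
    have hmt : m * t = t * m := by
      have mc : Commute m c := hMY m hm c hc
      rw [← hmc, mul_assoc, mc.eq]
    have hmP : ∀ p ∈ P, m * p = p * m := by
      intro p hp
      have h2 : Commute p c := hMY p (hPM hp) c hc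
      have h3 : Commute p t := h.Pt p hp
      have h4 : Commute p m := by rw [hm']; exact h3.mul_right h2.inv_right
      exact h4.symm.eq
    have htM' : t ∈ M := by
      rcases h.cP m hmt hmP with h2 | h2 | h2 | h2
      · exfalso
        apply htY
        intro x hx
        have h3 : t = c := by rw [← hmc, h2, one_mul]
        rw [h3]; exact hMY x hx c hc
      · exfalso
        apply htY
        intro x hx
        have h3 : t = z * c := by rw [← hmc, h2]
        have h4 : Commute x z := h.zc x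
        have h5 : Commute x c := hMY x hx c hc
        rw [h3]; exact (h4.mul_right h5).eq
      · rw [← h2]; exact hm
      · have h3 : t = m * z := by rw [h2, mul_assoc, h.zz, mul_one]
        rw [h3]; exact M.mul_mem hm (hPM h.zP)
    refine ⟨htM', fun y hy => ?_⟩
    have hyt : y * t = t * y := (hMY t htM' y hy).symm
    have hyP : ∀ p ∈ P, y * p = p * y := fun p hp => (hMY p (hPM hp) y hy).symm
    rcases h.cP y hyt hyP with h2 | h2 | h2 | h2
    · exact Or.inl h2
    · exact Or.inr h2
    · exfalso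
      apply htY
      intro x hx
      rw [← h2]; exact hMY x hx y hy
    · exfalso
      apply htY
      intro x hx
      have h3 : t = y * z := by rw [h2, mul_assoc, h.zz, mul_one]
      have h4 : Commute x y := hMY x hx y hy
      have h5 : Commute x z := h.zc x
      rw [h3]; exact (h4.mul_right h5).eq
  · exact Or.inr htM

end Hyp2

end Cfsg.Agent.OddHalf.CaseC

end

-- merged: Cfsg.Agent.OddHalf.CaseC.Glue
section

/-!
# Case (C) of D8: from the sheet of `K` to `X = C_G(z)` (helper971)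

`SheetC z P`: `P = C_K(z)^∞` is quasisimple, `Z(P) = {1, z}`, the automorphisms of `K` trivial on `P` are induced by
`P`, the automorphisms of `P` are inner.
-/

set_option autoImplicit false

namespace Cfsg.Agent.OddHalf.CaseC

open Subgroup Cfsg
open Cfsg.Agent.OddHalf.Front.FE Cfsg.Agent.OddHalf.D8.Sheet Cfsg.Agent.OddHalf.D8.GlueE
open Cfsg.Agent.OddHalf.D8.Front
open Cfsg.Agent.OddHalf.CaseM (toX mem_toX map_le_cent map_toX eP eP_coe)
open Cfsg.Agent.SignalizersComponents.Components

open scoped commutatorElement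

universe u

/-- the sheet of type (C) -/
structure SheetC {K : Type*} [Group K] (z : K) (P : Subgroup K) : Prop where
  basic : Basic z P
  /-- `P` is quasisimple -/
  qs : IsQuasisimple P
  /-- `Z(P) = {1, z}` -/
  cen2 : ∀ x ∈ P, (∀ p ∈ P, x * p = p * x) → x = 1 ∨ x = z
  /-- automorphisms of `K` trivial on `P` are induced by `P` -/
  autP : ∀ α : MulAut K, (∀ x ∈ P, α x = x) → ∃ p ∈ P, α = MulAut.conj p
  /-- automorphisms of `P` are inner -/
  outP : ∀ β : MulAut P, ∃ p : P, β = MulAut.conj p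

variable {G : Type u} [Group G] {K : Subgroup G} {t q : G} {z : K} {P : Subgroup K}

/-- perfect subgroups of `C_X(t)` lie in `P` -/
theorem res' [Finite G] (h : Emb K t q z P)
    {S : Subgroup ↥(centralizer ({(z : G)} : Set G))} (hSt : ∀ x ∈ S, (x : G) * t = t * x)
    (hp : ⁅S, S⁆ = S) : S ≤ toX z P := by
  obtain ⟨n, hn⟩ := h.dser_eq
  have h1 : S.map (centralizer ({(z : G)} : Set G)).subtype ≤
      centralizer ({t} : Set G) ⊓ centralizer ({(z : G)} : Set G) := by
    rintro _ ⟨x, hx, rfl⟩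
    exact ⟨mem_centralizer_singleton_iff.2 (hSt x hx), x.2⟩
  have h2 := TR.dser_mono n h1
  have hp' : ⁅S.map (centralizer ({(z : G)} : Set G)).subtype,
      S.map (centralizer ({(z : G)} : Set G)).subtype⁆ =
      S.map (centralizer ({(z : G)} : Set G)).subtype := by rw [← map_commutator, hp]
  rw [TR.dser_of_perfect n hp', hn] at h2
  intro x hx
  exact h2 ⟨x, hx, rfl⟩

/-- the hypotheses `CaseC.Hyp` for `X = C_G(z)` -/
theorem hyp [Finite G] (o : Out K t q z P) (hq : IsQuasisimple P)
    (hcore : pPrimeCore 2 ↥(centralizer ({(z : G)} : Set G)) = ⊥) :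
    Hyp (X := ↥(centralizer ({(z : G)} : Set G)))
      ⟨z, mem_centralizer_singleton_iff.2 rfl⟩ ⟨t, mem_centralizer_singleton_iff.2 o.emb.comm⟩
      (toX z P) := by
  have h := o.emb
  set H : Subgroup G := centralizer ({(z : G)} : Set G) with hH
  have hmemH : ∀ x, x ∈ H ↔ x * z = z * x := fun x => mem_centralizer_singleton_iff
  have hPz : ∀ x ∈ P, x * z = z * x := h.sh.cen
  have hPt : ∀ x ∈ P.map K.subtype, x * t = t * x := by
    rintro _ ⟨x, -, rfl⟩
    exact h.st.Kt x x.2
  set t' : H := ⟨t, mem_centralizer_singleton_iff.2 o.emb.comm⟩ with ht'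
  set z' : H := ⟨z, mem_centralizer_singleton_iff.2 rfl⟩ with hz'
  have hct : ∀ x : H, x * t' = t' * x ↔ (x : G) * t = t * x := fun x =>
    ⟨fun e => congrArg Subtype.val e, fun e => Subtype.ext e⟩
  exact
    { zc := fun x => Subtype.ext ((hmemH x).1 x.2)
      zz := Subtype.ext h.zz
      z1 := fun e => h.z1 (congrArg Subtype.val e)
      tt := Subtype.ext h.st.tt
      t1 := fun e => h.st.t1 (congrArg Subtype.val e)
      tP := by
        intro e
        obtain ⟨x, -, hx⟩ := mem_toX.1 e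
        apply h.tK
        have : (t : G) = x := hx.symm
        rw [this]; exact x.2
      zP := ⟨z, h.sh.zP, rfl⟩
      Pt := fun x hx => Subtype.ext (hPt x hx)
      Pq := isQuasisimple_of_mulEquiv (eP z P hPz) hq
      Pn := fun x hx p hp => h.conj_P ((hct x).1 hx) ((hmemH x).1 x.2) hp
      res := fun S hSt hp => res' h (fun x hx => (hct x).1 (mem_centralizer_singleton_iff.1 (hSt hx))) hp
      core := hcore }

/-- the hypotheses `CaseC.Hyp2` for `X = C_G(z)` -/
theorem hyp2 [Finite G] (o : Out K t q z P) (sh : SheetC z P)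
    (hcore : pPrimeCore 2 ↥(centralizer ({(z : G)} : Set G)) = ⊥) :
    Hyp2 (X := ↥(centralizer ({(z : G)} : Set G)))
      ⟨z, mem_centralizer_singleton_iff.2 rfl⟩ ⟨t, mem_centralizer_singleton_iff.2 o.emb.comm⟩
      (toX z P) := by
  have h := o.emb
  have hh := hyp o sh.qs hcore
  set H : Subgroup G := centralizer ({(z : G)} : Set G) with hH
  have hmemH : ∀ x, x ∈ H ↔ x * z = z * x := fun x => mem_centralizer_singleton_iff
  have hPz : ∀ x ∈ P, x * z = z * x := h.sh.cen
  set t' : H := ⟨t, mem_centralizer_singleton_iff.2 o.emb.comm⟩ with ht'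
  set z' : H := ⟨z, mem_centralizer_singleton_iff.2 rfl⟩ with hz'
  have hct : ∀ x : H, x * t' = t' * x ↔ (x : G) * t = t * x := fun x =>
    ⟨fun e => congrArg Subtype.val e, fun e => Subtype.ext e⟩
  refine { toHyp := hh, cP := ?_, outP := ?_, swap := ?_, com := o.com }
  · intro x hx hxP
    have hxt := (hct x).1 hx
    have hxP' : ∀ p ∈ P, (x : G) * p = p * x := by
      intro p hp
      have hpH : (p : G) ∈ H := (hmemH p).2 (congrArg Subtype.val (hPz p hp))
      exact congrArg Subtype.val (hxP ⟨p, hpH⟩ ⟨p, hp, rfl⟩)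
    obtain ⟨p, hp, hpx⟩ := sh.autP (K.normalizerMonoidHom ⟨x, h.nor hxt⟩) (by
      intro p hp
      apply Subtype.ext
      rw [nmh_apply, hxP' p hp, mul_inv_cancel_right])
    -- `p ∈ Z(P)`
    have hpc : p = 1 ∨ p = z := by
      apply sh.cen2 p hp
      intro r hr
      have h1 := congrArg (fun f : MulAut K => ((f r : K) : G)) hpx
      simp only [nmh_apply (h.nor hxt), MulAut.conj_apply] at h1
      have h2 : (x : G) * r * (x : G)⁻¹ = (p : G) * r * (p : G)⁻¹ := h1
      rw [hxP' r hr, mul_inv_cancel_right, eq_mul_inv_iff_mul_eq] at h2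
      exact Subtype.ext h2.symm
    have h3 := exists_of_conj (h.nor hxt) hpx
    have h4 : (p : G)⁻¹ * x ∈ zpowers q := by
      apply h.st.cK
      · have h5 := h.st.Kt (p : G)⁻¹ (K.inv_mem p.2)
        calc (p : G)⁻¹ * x * t = (p : G)⁻¹ * (x * t) := by group
          _ = ((p : G)⁻¹ * t) * x := by rw [hxt]; group
          _ = t * ((p : G)⁻¹ * x) := by rw [h5]; group
      · exact h3
    have h6 : (x : G) = p * ((p : G)⁻¹ * x) := by group
    rcases hpc with e | e <;> rcases o.Q2 _ h4 with e' | e'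
    · left
      apply Subtype.ext
      rw [h6, e', e]; simp
    · right; right; left
      apply Subtype.ext
      rw [h6, e', e]; simp [ht']
    · right; left
      apply Subtype.ext
      rw [h6, e', e]; simp [hz']
    · right; right; right
      apply Subtype.ext
      rw [h6, e', e]
      exact h.comm.symm
  · intro β
    let e := eP z P hPz
    obtain ⟨p, hp⟩ := sh.outP (e.trans (β.trans e.symm))
    refine ⟨e p, ?_⟩
    ext1 x
    have h1 := congrArg (fun f : MulAut P => e (f (e.symm x))) hp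
    simp only [MulAut.conj_apply, map_mul, map_inv] at h1
    have h2 : β x = e p * x * (e p)⁻¹ := by
      have h3 : e ((e.trans (β.trans e.symm)) (e.symm x)) = β x := by
        simp [MulEquiv.trans_apply]
      rw [← h3]
      rw [h1]
      simp
    rw [h2, MulAut.conj_apply]
  · obtain ⟨x, -, hxt, hxz⟩ := o.swap
    have hxH : x ∈ H := (hmemH x).2 (mul_inv_eq_iff_eq_mul.1 hxz)
    exact ⟨⟨x, hxH⟩, Subtype.ext hxt⟩

end Cfsg.Agent.OddHalf.CaseC

end

-- merged: Cfsg.Agent.OddHalf.Front.FrontOuter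
section

/-!
# The named statement `MainE.FrontOuter` (helper971)
-/

set_option autoImplicit false

namespace Cfsg.Agent.OddHalf.Front.FrontOuter

open Subgroup Cfsg Cfsg.Agent.OddHalf.Front.FE Cfsg.Agent.OddHalf.D8.Sheet Cfsg.Agent.OddHalf.D8.GlueE
  Cfsg.Agent.OddHalf.D8.Front

universe u

variable {G : Type u} [Group G]

/-- the output of the front end, with or without an outer part -/
theorem out_of_emb (C : Iface.Ctx G) {K : Subgroup G} {t q : G} {z : K} {P : Subgroup K}
    (h : Emb K t q z P) : Out K t q z P := by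
  have hfin : Finite G := C.fin
  obtain ⟨T, F⟩ := OfSheet.facts h
  obtain ⟨-, hQ, S, -, -, ⟨x, hxS, -, -, hxt, hxz⟩, hnc, htH⟩ :=
    CycT.main F (commutator_eq_top C) (index_ne_two C)
  exact ⟨h, hQ, ⟨x, S.isPGroup'.to_le (by rw [zpowers_le]; exact hxS), hxt, hxz⟩, hnc, htH⟩

/-- **FrontOuter** -/
theorem frontOuter : D8.MainE.FrontOuter.{u} := fun _ _ C _ _ _ _ _ h _ => out_of_emb C h

end Cfsg.Agent.OddHalf.Front.FrontOuter

end

-- merged: Cfsg.Agent.OddHalf.CaseC.Row
section

/-!
# Case (C) of D8: the row (helper971)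

`row_of`: if every group `K` with `X K` has trivial centre and a sheet of type (C), then `Row X`.
-/

set_option autoImplicit false

namespace Cfsg.Agent.OddHalf.CaseC

open Subgroup Cfsg
open Cfsg.Agent.OddHalf.Iface
open Cfsg.Agent.OddHalf.Front.FE Cfsg.Agent.OddHalf.D8 Cfsg.Agent.OddHalf.D8.Sheet Cfsg.Agent.OddHalf.D8.GlueE
open Cfsg.Agent.OddHalf.D8.Front
open Cfsg.Agent.Cit (cj mem_cj conj_mem_cj conj_mem_cj_iff)
open Cfsg.Agent.OddHalf.CaseM (toX mem_toX map_le_cent rank_two even_card sch_of_comp compOf_map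
  le_sup_centralizer)
open Cfsg.Agent.SignalizersComponents.Components
open Cfsg.Agent.Schreier.Basic

open scoped commutatorElement

universe u

variable {G : Type u} [Group G]

/-- a component of `C_G(z)` does not contain `z` as its only involution -/
theorem not_unique (C : Ctx G) (hGW : SylowSp4.Hyps.GW.{u}) {z : G} (hz : orderOf z = 2)
    {M : Subgroup ↥(centralizer ({z} : Set G))} (hM : IsComponent M)
    (hzM : (⟨z, mem_centralizer_singleton_iff.2 rfl⟩ : ↥(centralizer ({z} : Set G))) ∈ M)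
    (huniq : ∀ v ∈ M, v * v = 1 → v = 1 ∨ v = (⟨z, mem_centralizer_singleton_iff.2 rfl⟩ :
      ↥(centralizer ({z} : Set G)))) : False := by
  have hfin := C.fin
  have hcomp := compOf_map hM
  refine rank_two C hGW hz hcomp ⟨_, hzM, rfl⟩ ?_
  intro E _ hE
  have hEz : ∀ x ∈ E, x = 1 ∨ ((x : ↥(M.map (centralizer ({z} : Set G)).subtype)) : G) = z := by
    intro x hx
    obtain ⟨y, hy, hyx⟩ := x.2
    have h1 : ((x : ↥(M.map (centralizer ({z} : Set G)).subtype)) : G) *
        ((x : ↥(M.map (centralizer ({z} : Set G)).subtype)) : G) = 1 := by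
      have := congrArg Subtype.val (hE x hx)
      rw [pow_two] at this
      exact this
    have hyx' : (y : G) = ((x : ↥(M.map (centralizer ({z} : Set G)).subtype)) : G) := hyx
    rcases huniq y hy (by
      apply Subtype.ext
      change (y : G) * y = 1
      rw [hyx']; exact h1) with e | e
    · left
      apply Subtype.ext
      rw [← hyx', e]; rfl
    · right
      rw [← hyx', e]
  have hle : E ≤ zpowers (⟨z, ⟨_, hzM, rfl⟩⟩ : ↥(M.map (centralizer ({z} : Set G)).subtype)) := by
    intro x hx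
    rcases hEz x hx with e | e
    · rw [e]; exact one_mem _
    · have : x = ⟨z, ⟨_, hzM, rfl⟩⟩ := Subtype.ext e
      rw [this]; exact mem_zpowers _
  have hcard := Subgroup.card_le_of_le hle
  rw [Nat.card_zpowers] at hcard
  have ho : orderOf (⟨z, ⟨_, hzM, rfl⟩⟩ : ↥(M.map (centralizer ({z} : Set G)).subtype)) = 2 := by
    rw [← Subgroup.orderOf_coe]; exact hz
  rw [ho] at hcard
  exact hcard

/-- the Schreier property, in the form used by `CaseC.Hyp.main` -/
theorem sch_le (C : Ctx G) (hSch : Cfsg.Agent.Schreier.Cases.SchFor.{u} @IsKnownSimple') {z : G}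
    (hz : orderOf z = 2) {P : Subgroup ↥(centralizer ({z} : Set G))} (hP : ⁅P, P⁆ = P)
    (M : Subgroup ↥(centralizer ({z} : Set G))) (hM : IsComponent M) (hn : ∀ p ∈ P, cj p M = M) :
    P ≤ M ⊔ centralizer (M : Set ↥(centralizer ({z} : Set G))) := by
  have hfin := C.fin
  have hcomp := compOf_map hM
  have hSchM : Sch (↥M ⧸ center ↥M) := by
    have e : ↥(M.map (centralizer ({z} : Set G)).subtype) ≃* ↥M :=
      (M.equivMapOfInjective _ (centralizer ({z} : Set G)).subtype_injective).symm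
    exact Cfsg.Agent.Schreier.Balance.sch_center_quotient e (sch_of_comp C hSch hz hcomp)
  exact le_sup_centralizer hM.2.1 hSchM hP hn

/-- components have even order -/
theorem even_comp (C : Ctx G) {z : G} (hz : orderOf z = 2) (M : Subgroup ↥(centralizer ({z} : Set G)))
    (hM : IsComponent M) : 2 ∣ Nat.card M := by
  have h1 := even_card C hz (compOf_map hM)
  rwa [Nat.card_congr (M.equivMapOfInjective _
    (centralizer ({z} : Set G)).subtype_injective).toEquiv.symm] at h1

variable {K : Subgroup G} {t q : G} {z : K} {P : Subgroup K}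

/-- **the contradiction** -/
theorem false_of_out (C : Ctx G) (hSch : Cfsg.Agent.Schreier.Cases.SchFor.{u} @IsKnownSimple')
    (hGW : SylowSp4.Hyps.GW.{u}) (hI : CaseM.Intr.{u}) (hS : CaseM.IntrSign.{u})
    (o : Out K t q z P) (sh : SheetC z P) : False := by
  have hfin := C.fin
  have hsimp := C.simple
  have hz := MainE.orderOf_z o.emb
  have h := hyp2 o sh (MainE.core_eq_bot C hz)
  have htH : t ∈ centralizer ({(z : G)} : Set G) := mem_centralizer_singleton_iff.2 o.emb.comm
  obtain ⟨M, hM, hMn, hP, hzM0, hcase⟩ := h.main2 (fun M hM hn => sch_le C hSch hz h.Pperf M hM hn)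
    (fun N hN => even_comp C hz N hN) (fun N hN hzN hu => not_unique C hGW hz hN hzN hu)
  have hcomp := compOf_map hM
  have hzM : (z : G) ∈ M.map (centralizer ({(z : G)} : Set G)).subtype := ⟨_, hzM0, rfl⟩
  have hrk := rank_two C hGW hz hcomp hzM
  have hq := Soft.CompOf.quasisimple hcomp
  have hnt := Soft.CompOf.ne_top C.na hz hcomp
  have hkn := Known.known_quotient C.kproper _ hnt _ hq.2 (Soft.quo_na hq)
  rcases hcase with ⟨htM, hcM⟩ | htM
  · -- `t ∈ M`
    have hnc : ∃ x ∈ M.map (centralizer ({(z : G)} : Set G)).subtype, t * x ≠ x * t := by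
      by_contra hcon
      push Not at hcon
      have h1 : (⟨t, htH⟩ : ↥(centralizer ({(z : G)} : Set G))) ∈
          centralizer (M : Set ↥(centralizer ({(z : G)} : Set G))) := by
        rw [mem_centralizer_iff]
        intro x hx
        exact Subtype.ext (hcon x ⟨x, hx, rfl⟩).symm
      rcases hcM _ h1 with e | e
      · exact h.t1 e
      · exact h.t_ne_z e
    obtain ⟨-, hcent, hnorm, hstd⟩ := Table.lemmaS (D₀ := (P.map K.subtype : Subgroup G)) hz o.emb.st.tt
      hcomp.1 hcomp.2 hzM (by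
        intro d hd
        have hdH : d ∈ centralizer ({(z : G)} : Set G) := map_le_cent o.emb.sh.cen hd
        exact ⟨⟨d, hdH⟩, hP hd, rfl⟩) (by
        intro y hyz hyt hyP
        have hyH : y ∈ centralizer ({(z : G)} : Set G) := mem_centralizer_singleton_iff.2 hyz
        rcases h.cP ⟨y, hyH⟩ (Subtype.ext hyt) (by
          intro r hr
          exact Subtype.ext (hyP r hr)) with e | e | e | e
        · exact Or.inl (congrArg Subtype.val e)
        · exact Or.inr (Or.inr (Or.inl (congrArg Subtype.val e)))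
        · exact Or.inr (Or.inl (congrArg Subtype.val e))
        · exact Or.inr (Or.inr (Or.inr (congrArg Subtype.val e))))
      ⟨t, ⟨_, htM, rfl⟩, fun x _ => rfl⟩ hnc
    exact hI G C _ z
      { hz := hz
        comp := hcomp
        zM := hzM
        cent := hcent
        norm := hnorm
        std := hstd
        ne_top := hnt
        z2 := Soft.CompOf.center_isPGroup (C.bal _ hz) hcomp
        rk2 := hrk
        simple := hq.2
        quo_na := Soft.quo_na hq
        known := hkn }
  · -- `t ∉ M C(M)`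
    have hn : ∀ g ∈ centralizer ({(z : G)} : Set G), ∀ x ∈ M.map (centralizer ({(z : G)} : Set G)).subtype,
        g * x * g⁻¹ ∈ M.map (centralizer ({(z : G)} : Set G)).subtype := by
      rintro g hg _ ⟨x, hx, rfl⟩
      exact ⟨⟨g, hg⟩ * x * ⟨g, hg⟩⁻¹, hMn.conj_mem x hx _, rfl⟩
    have hperf : ⁅M.map (centralizer ({(z : G)} : Set G)).subtype,
        M.map (centralizer ({(z : G)} : Set G)).subtype⁆ = M.map (centralizer ({(z : G)} : Set G)).subtype := by
      rw [← map_commutator, isPerfect_iff.1 hM.2.1]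
    obtain ⟨lam, hlam, -, -⟩ := Table.exists_lam_sub hcomp.1 hn hperf (MulEquiv.refl _)
      (hS G C _ z hz hcomp hzM hrk hq.2 (Soft.quo_na hq) hkn) htH (by
        intro x _
        rw [o.emb.st.tt, one_mul, mul_one]) (by
        rintro _ ⟨x, hx, rfl⟩ c hc hcx e
        apply htM
        have e1 : (⟨t, htH⟩ : ↥(centralizer ({(z : G)} : Set G))) = x * ⟨c, hc⟩ := Subtype.ext e
        rw [e1]
        refine mul_mem (mem_sup_left hx) (mem_sup_right ?_)
        rw [mem_centralizer_iff]
        intro y hy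
        exact Subtype.ext (hcx y ⟨y, hy, rfl⟩).symm)
    exact h.no_sign lam hlam

/-- **the row of a sheet of type (C)** -/
theorem row_of (hSch : Cfsg.Agent.Schreier.Cases.SchFor.{u} @IsKnownSimple')
    (hGW : SylowSp4.Hyps.GW.{u}) (hI : CaseM.Intr.{u}) (hS : CaseM.IntrSign.{u})
    {X : (K : Type u) → [Group K] → Prop}
    (hX : ∀ (K : Type u) [Group K], Finite K → X K → center K = ⊥ ∧ ∃ (z : K) (P : Subgroup K), SheetC z P) :
    Rows.Row.{u} X := by
  intro G _ C K S hcyc hK
  have hfin := C.fin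
  obtain ⟨hcen, z, P, sh⟩ := hX K inferInstance hK
  obtain ⟨t, q, st⟩ := exists_start C S hcyc hcen
  have h : Emb K t q z P := ⟨st, sh.basic⟩
  exact false_of_out C hSch hGW hI hS (Front.FrontOuter.out_of_emb C h) sh

end Cfsg.Agent.OddHalf.CaseC

end
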