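import Cfsg.Agent.OddHalf.Main
import Cfsg.Agent.S1306
import Cfsg.Agent.SignalizersComponents.Components
import Cfsg.Agent.OddHalf.CaseC.Row

-- merged: Cfsg.Agent.OddHalf.IntrCyc
section

/-!
# `Intr` with cyclic centralizer (helper970)

`IntrCyc`: there is no standard subgroup `M` containing an involution `z` with `z ∈ C(M)` and `C(M)` cyclic. It follows
from the listed statements, `D9`, `U2` and `D5cover`, as `Intr`.
-/

set_option autoImplicit false
set_option linter.style.haveILetI false
set_option linter.dupNamespace false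

namespace Cfsg.Agent.OddHalf.IntrCyc

open Subgroup Cfsg Cfsg.Agent.OddHalf.Iface Cfsg.Agent.OddHalf.Stmts

universe u

/-- **Intr** with a cyclic centralizer -/
def IntrCyc : Prop :=
  ∀ (G : Type u) [Group G], Ctx G → ∀ (M : Subgroup G) (z : G), orderOf z = 2 → IsStandardSubgroup M → z ∈ M →
    z ∈ centralizer (M : Set G) → IsCyclic ↥(centralizer (M : Set G)) → False

/-- the special case `C(M) = ⟨z⟩` -/
theorem IntrCyc.intr (h : IntrCyc.{u}) : Intr.{u} := by
  intro G _ C M z hz hM hzM hCM
  refine h G C M z hz hM hzM (by rw [hCM]; exact mem_zpowers z) ?_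
  rw [hCM]
  infer_instance

/-- the only involution of a cyclic group -/
theorem eq_of_orderOf_two {G : Type*} [Group G] [Finite G] {D : Subgroup G} (hD : IsCyclic D) {y z : G} (hy : y ∈ D)
    (hz : z ∈ D) (hy2 : orderOf y = 2) (hz2 : orderOf z = 2) : y = z := by
  classical
  haveI := hD
  haveI : Fintype D := Fintype.ofFinite _
  have h1 := IsCyclic.card_pow_eq_one_le (α := D) (n := 2) two_pos
  by_contra hne
  have hy1 : y ^ 2 = 1 := hy2 ▸ pow_orderOf_eq_one y
  have hz1 : z ^ 2 = 1 := hz2 ▸ pow_orderOf_eq_one z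
  have hy0 : y ≠ 1 := by
    rintro rfl
    rw [orderOf_one] at hy2
    omega
  have hz0 : z ≠ 1 := by
    rintro rfl
    rw [orderOf_one] at hz2
    omega
  have h2 : ({1, ⟨y, hy⟩, ⟨z, hz⟩} : Finset D) ⊆ Finset.univ.filter (fun a : D => a ^ 2 = 1) := by
    intro a ha
    rw [Finset.mem_insert, Finset.mem_insert, Finset.mem_singleton] at ha
    rw [Finset.mem_filter]
    refine ⟨Finset.mem_univ _, ?_⟩
    rcases ha with rfl | rfl | rfl
    · exact one_pow 2
    · exact Subtype.ext hy1
    · exact Subtype.ext hz1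
  have h3 : ({1, ⟨y, hy⟩, ⟨z, hz⟩} : Finset D).card = 3 := by
    rw [Finset.card_eq_three]
    refine ⟨_, _, _, ?_, ?_, ?_, rfl⟩
    · intro h4
      exact hy0 (congrArg Subtype.val h4).symm
    · intro h4
      exact hz0 (congrArg Subtype.val h4).symm
    · intro h4
      exact hne (congrArg Subtype.val h4)
  have h4 := Finset.card_le_card h2
  omega

/-- tight embedding: the centralizer of an involution of `C(M)` normalizes `M` -/
theorem centralizer_le {G : Type u} [Group G] [Finite G] {M : Subgroup G} (hM : IsStandardSubgroup M) {z : G}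
    (hz : orderOf z = 2) (hzC : z ∈ centralizer (M : Set G)) :
    centralizer ({z} : Set G) ≤ normalizer (M : Set G) := by
  intro g hg
  rw [hM.2.2.2]
  by_contra hn
  have h1 := hM.2.1.2 g hn
  have hgz : g * z = z * g := mem_centralizer_singleton_iff.1 hg
  have h2 : z ∈ centralizer (M : Set G) ⊓ (centralizer (M : Set G)).map (MulAut.conj g).toMonoidHom := by
    refine ⟨hzC, z, hzC, ?_⟩
    show g * z * g⁻¹ = z
    rw [hgz]; group
  have h3 : orderOf (⟨z, h2⟩ : ↥(centralizer (M : Set G) ⊓
      (centralizer (M : Set G)).map (MulAut.conj g).toMonoidHom)) = 2 := by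
    rw [Subgroup.orderOf_mk]; exact hz
  have h4 : 2 ∣ Nat.card ↥(centralizer (M : Set G) ⊓
      (centralizer (M : Set G)).map (MulAut.conj g).toMonoidHom) := by
    rw [← h3]; exact orderOf_dvd_natCard _
  exact (Nat.not_even_iff_odd.2 h1) (even_iff_two_dvd.2 h4)

/-- **IntrCyc** from the listed statements, `D9`, `U2` and `D5cover` -/
theorem intrCyc (hGW : SylowSp4.Hyps.GW.{u}) (Kn : Main.Known.{u}) (d9 : D9.{u}) (u2 : U2.{u})
    (d5cover : D5cover.{u}) : IntrCyc.{u} := by
  intro G _ C M z hz hM hzM hzC hcy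
  haveI := C.fin
  haveI := C.simple
  have hcz := centralizer_le hM hz hzC
  have hMz : M ≤ centralizer ({z} : Set G) := by
    intro m hm
    rw [mem_centralizer_singleton_iff]
    exact ((mem_centralizer_iff.mp hzC) m hm)
  have hcomp : CompOf z M := Main.compOf_of_normal hM.1 hcz hMz
  have T : Term0 G M := by
    refine ⟨⟨z, hz, hcomp⟩, fun y hy hyC => ?_⟩
    rw [eq_of_orderOf_two hcy hyC hzC hy hz]
    exact hcomp
  have hT := Soft.CompOf.ne_top C.na hz hcomp
  have hn := Soft.quo_na hM.1
  have S : Std0 G M :=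
    { T with
      std := hM
      ne_top := hT
      z2 := Soft.CompOf.center_isPGroup (C.bal z hz) hcomp
      rk2 := D1.not_rank_one hGW C T
      simple := hM.1.2
      quo_na := hn
      known := Known.known_quotient C.kproper M hT _ hM.1.2 hn }
  have hcen : center ↥M ≠ ⊥ := by
    intro hb
    have h1 : (⟨z, hzM⟩ : ↥M) ∈ center ↥M := by
      rw [mem_center_iff]
      intro m
      exact Subtype.ext ((mem_centralizer_iff.mp hzC) m m.2)
    rw [hb, mem_bot] at h1
    have h2 : z = 1 := congrArg Subtype.val h1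
    rw [h2, orderOf_one] at hz
    omega
  have hcyc : Cyc M := by
    intro R
    haveI := hcy
    infer_instance
  exact Main.even_false Kn d9 u2 d5cover C S hcyc hcen

end Cfsg.Agent.OddHalf.IntrCyc

end

-- merged: Cfsg.Agent.OddHalf.D8.HS.Stand
section

/-!
# An intrinsic component with cyclic centralizer is standard

`z` an involution, `M` a component of `C_G(z)` with `z ∈ M` and cyclic `C_G(M)`. Then `M` is a standard subgroup of
`G` (`standard`), and `Iface.Intr2` applies (`false_of_cyclic`).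
-/

set_option autoImplicit false

namespace Cfsg.Agent.OddHalf.D8.HS.Stand

open Subgroup Cfsg Cfsg.Agent.OddHalf.Iface
open Cfsg.Agent.SignalizersComponents.Components

universe u

variable {G : Type u} [Group G]

/-- a component `M` of `C(z)` with `z ∈ M` and cyclic centralizer is standard -/
theorem standard [Finite G] {z : G} (hz : orderOf z = 2) {M : Subgroup G} (hMz : M ≤ centralizer ({z} : Set G))
    (hM : IsComponent (M.subgroupOf (centralizer ({z} : Set G))))
    (hc : IsCyclic ↥(centralizer (M : Set G))) : IsStandardSubgroup M ∧ Cyc M := by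
  have hzC : z ∈ centralizer (M : Set G) := by
    rw [mem_centralizer_iff]
    intro m hm
    exact mem_centralizer_singleton_iff.1 (hMz hm)
  have hna : ¬ ∀ a ∈ M, ∀ b ∈ M, a * b = b * a := by
    intro hab
    apply quasisimple_not_isMulCommutative hM.2
    refine ⟨⟨?_⟩⟩
    rintro ⟨⟨a, ha1⟩, ha⟩ ⟨⟨b, hb1⟩, hb⟩
    exact Subtype.ext (Subtype.ext (hab a (mem_subgroupOf.1 ha) b (mem_subgroupOf.1 hb)))
  refine ⟨Cfsg.Agent.S1306.result z hz M hMz hM ?_ ?_, fun R => ?_⟩
  · intro y hy hyM
    have h1 : y = z := IntrCyc.eq_of_orderOf_two hc hyM hzC hy hz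
    rw [h1]
    exact ⟨hMz, hM⟩
  · intro g _ hcomm
    apply hna
    have h1 : M.map (MulAut.conj g).toMonoidHom ≤ centralizer (M : Set G) := by
      rw [← commutator_eq_bot_iff_le_centralizer, commutator_comm]
      exact hcomm
    have hcm := hc.isMulCommutative
    intro a ha b hb
    have h2 : g * a * g⁻¹ ∈ centralizer (M : Set G) := h1 ⟨a, ha, rfl⟩
    have h3 : g * b * g⁻¹ ∈ centralizer (M : Set G) := h1 ⟨b, hb, rfl⟩
    have h4 : (g * a * g⁻¹) * (g * b * g⁻¹) = (g * b * g⁻¹) * (g * a * g⁻¹) :=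
      congrArg Subtype.val (hcm.is_comm.comm (⟨_, h2⟩ : ↥(centralizer (M : Set G))) ⟨_, h3⟩)
    have h5 : g * (a * b) * g⁻¹ = g * (b * a) * g⁻¹ := by
      calc g * (a * b) * g⁻¹ = (g * a * g⁻¹) * (g * b * g⁻¹) := by group
        _ = (g * b * g⁻¹) * (g * a * g⁻¹) := h4
        _ = g * (b * a) * g⁻¹ := by group
    exact mul_left_cancel (mul_right_cancel h5)
  · have := hc
    infer_instance

/-- the same for a subgroup of `X = C_G(z)` -/
theorem standard_of_sub [Finite G] {z : G} (hz : orderOf z = 2) {M : Subgroup ↥(centralizer ({z} : Set G))}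
    (hM : IsComponent M) (hzM : (⟨z, mem_centralizer_singleton_iff.2 rfl⟩ : ↥(centralizer ({z} : Set G))) ∈ M)
    {y : ↥(centralizer ({z} : Set G))} (hy : centralizer (M : Set ↥(centralizer ({z} : Set G))) = zpowers y) :
    IsStandardSubgroup (M.map (centralizer ({z} : Set G)).subtype) ∧
      Cyc (M.map (centralizer ({z} : Set G)).subtype) ∧ z ∈ M.map (centralizer ({z} : Set G)).subtype ∧
      z ∈ centralizer (M.map (centralizer ({z} : Set G)).subtype : Set G) := by
  set M₁ : Subgroup G := M.map (centralizer ({z} : Set G)).subtype with hM₁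
  have hle : M₁ ≤ centralizer ({z} : Set G) := map_subtype_le M
  have hsub : M₁.subgroupOf (centralizer ({z} : Set G)) = M := by
    rw [hM₁, subgroupOf, comap_map_eq_self_of_injective (centralizer ({z} : Set G)).subtype_injective]
  have hzM₁ : z ∈ M₁ := ⟨_, hzM, rfl⟩
  have hzC : z ∈ centralizer (M₁ : Set G) := by
    rw [mem_centralizer_iff]
    intro m hm
    exact mem_centralizer_singleton_iff.1 (hle hm)
  have hcyc : IsCyclic ↥(centralizer (M₁ : Set G)) := by
    have h1 : centralizer (M₁ : Set G) ≤ zpowers (y : G) := by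
      intro x hx
      have hxz : x * z = z * x := (mem_centralizer_iff.1 hx z hzM₁).symm
      have h2 : (⟨x, mem_centralizer_singleton_iff.2 hxz⟩ : ↥(centralizer ({z} : Set G))) ∈
          centralizer (M : Set ↥(centralizer ({z} : Set G))) := by
        rw [mem_centralizer_iff]
        intro m hm
        exact Subtype.ext (mem_centralizer_iff.1 hx m ⟨m, hm, rfl⟩)
      rw [hy] at h2
      obtain ⟨k, hk⟩ := mem_zpowers_iff.1 h2
      exact mem_zpowers_iff.2 ⟨k, congrArg Subtype.val hk⟩
    exact isCyclic_of_injective (inclusion h1) (inclusion_injective h1)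
  obtain ⟨h1, h2⟩ := standard hz hle (by rw [hsub]; exact hM) hcyc
  exact ⟨h1, h2, hzM₁, hzC⟩

/-- `Intr2` kills the configuration -/
theorem false_of_cyclic (h : Intr2.{u}) (C : Ctx G) {z : G} (hz : orderOf z = 2)
    {M : Subgroup ↥(centralizer ({z} : Set G))} (hM : IsComponent M)
    (hzM : (⟨z, mem_centralizer_singleton_iff.2 rfl⟩ : ↥(centralizer ({z} : Set G))) ∈ M)
    {y : ↥(centralizer ({z} : Set G))} (hy : centralizer (M : Set ↥(centralizer ({z} : Set G))) = zpowers y) :
    False := by
  have := C.fin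
  obtain ⟨h1, h2, h3, h4⟩ := standard_of_sub hz hM hzM hy
  exact h G C _ h1 h2 ⟨z, hz, h3, h4⟩

end Cfsg.Agent.OddHalf.D8.HS.Stand

end

-- merged: Cfsg.Agent.OddHalf.CaseC.EndComp
section

/-!
# The common end of the cases (M) and (C) of D8: a normal component of `C_G(z)` containing `z`

`X = C_G(z)`, `M` a component of `X` with `z ∈ M`.

`false_of_cent`: `C_X(M)` is contained in a cyclic group (then `M` is standard and `Iface.Intr2` applies).

`false_of_out_sign`: `M` is normal in `X`, `t ∉ M C_X(M)` and no homomorphism `X → {±1}` maps `t` to `-1`.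

`main`: one of the two alternatives holds.
-/

set_option autoImplicit false

namespace Cfsg.Agent.OddHalf.CaseC.EndComp

open Subgroup Cfsg
open Cfsg.Agent.OddHalf.Iface
open Cfsg.Agent.OddHalf.CaseM (rank_two compOf_map)
open Cfsg.Agent.SignalizersComponents.Components
open Cfsg.Agent.Schreier.Basic

universe u

variable {G : Type u} [Group G]

/-- `t ∈ M`, `C_X(M)` cyclic -/
theorem false_of_cent (I : Intr2.{u}) (C : Ctx G) {z : G} (hz : orderOf z = 2)
    {M : Subgroup ↥(centralizer ({z} : Set G))} (hM : IsComponent M)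
    (hzM : (⟨z, mem_centralizer_singleton_iff.2 rfl⟩ : ↥(centralizer ({z} : Set G))) ∈ M)
    {y : ↥(centralizer ({z} : Set G))}
    (hc : centralizer (M : Set ↥(centralizer ({z} : Set G))) ≤ zpowers y) : False := by
  have hcyc : IsCyclic ↥(centralizer (M : Set ↥(centralizer ({z} : Set G)))) :=
    isCyclic_of_injective (inclusion hc) (inclusion_injective hc)
  obtain ⟨g, hg⟩ := hcyc.exists_generator
  refine D8.HS.Stand.false_of_cyclic I C hz hM hzM (y := g) (le_antisymm ?_ ?_)
  · intro x hx
    obtain ⟨n, hn⟩ := mem_zpowers_iff.1 (hg ⟨x, hx⟩)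
    exact mem_zpowers_iff.2 ⟨n, congrArg Subtype.val hn⟩
  · rw [zpowers_le]
    exact g.2

/-- `t ∉ M C_X(M)` -/
theorem false_of_out_sign (C : Ctx G) (hGW : SylowSp4.Hyps.GW.{u}) (hS : CaseM.IntrSign.{u})
    {z : G} (hz : orderOf z = 2)
    {M : Subgroup ↥(centralizer ({z} : Set G))} (hM : IsComponent M) (hMn : M.Normal)
    (hzM : (⟨z, mem_centralizer_singleton_iff.2 rfl⟩ : ↥(centralizer ({z} : Set G))) ∈ M)
    {t : ↥(centralizer ({z} : Set G))} (htt : t * t = 1)
    (hTR : ∀ f : ↥(centralizer ({z} : Set G)) →* ℤˣ, f t ≠ -1)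
    (htM : t ∉ M ⊔ centralizer (M : Set ↥(centralizer ({z} : Set G)))) : False := by
  have hfin := C.fin
  have hsimp := C.simple
  have hcomp := compOf_map hM
  have hzM' : z ∈ M.map (centralizer ({z} : Set G)).subtype := ⟨_, hzM, rfl⟩
  have hrk := rank_two C hGW hz hcomp hzM'
  have hq := Soft.CompOf.quasisimple hcomp
  have hnt := Soft.CompOf.ne_top C.na hz hcomp
  have hkn := Known.known_quotient C.kproper _ hnt _ hq.2 (Soft.quo_na hq)
  have hn : ∀ g ∈ centralizer ({z} : Set G), ∀ x ∈ M.map (centralizer ({z} : Set G)).subtype,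
      g * x * g⁻¹ ∈ M.map (centralizer ({z} : Set G)).subtype := by
    rintro g hg _ ⟨x, hx, rfl⟩
    exact ⟨⟨g, hg⟩ * x * ⟨g, hg⟩⁻¹, hMn.conj_mem x hx _, rfl⟩
  have hperf : ⁅M.map (centralizer ({z} : Set G)).subtype,
      M.map (centralizer ({z} : Set G)).subtype⁆ = M.map (centralizer ({z} : Set G)).subtype := by
    rw [← map_commutator, isPerfect_iff.1 hM.2.1]
  have htt' : (t : G) * t = 1 := congrArg Subtype.val htt
  obtain ⟨lam, hlam, -, -⟩ := Table.exists_lam_sub hcomp.1 hn hperf (MulEquiv.refl _)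
    (hS G C _ z hz hcomp hzM' hrk hq.2 (Soft.quo_na hq) hkn) t.2 (by
      intro x _
      rw [htt', one_mul, mul_one]) (by
      rintro _ ⟨x, hx, rfl⟩ c hc hcx e
      apply htM
      have e1 : t = x * ⟨c, hc⟩ := Subtype.ext e
      rw [e1]
      refine mul_mem (mem_sup_left hx) (mem_sup_right ?_)
      rw [mem_centralizer_iff]
      intro y hy
      exact Subtype.ext (hcx y ⟨y, hy, rfl⟩).symm)
  exact hTR lam hlam

/-- **the end** -/
theorem main (C : Ctx G) (hGW : SylowSp4.Hyps.GW.{u}) (I : Intr2.{u}) (hS : CaseM.IntrSign.{u})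
    {z : G} (hz : orderOf z = 2)
    {M : Subgroup ↥(centralizer ({z} : Set G))} (hM : IsComponent M) (hMn : M.Normal)
    (hzM : (⟨z, mem_centralizer_singleton_iff.2 rfl⟩ : ↥(centralizer ({z} : Set G))) ∈ M)
    {t y : ↥(centralizer ({z} : Set G))} (htt : t * t = 1)
    (hTR : ∀ f : ↥(centralizer ({z} : Set G)) →* ℤˣ, f t ≠ -1)
    (h : centralizer (M : Set ↥(centralizer ({z} : Set G))) ≤ zpowers y ∨
      t ∉ M ⊔ centralizer (M : Set ↥(centralizer ({z} : Set G)))) : False := by
  rcases h with h | h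
  · exact false_of_cent I C hz hM hzM h
  · exact false_of_out_sign C hGW hS hz hM hMn hzM htt hTR h

end Cfsg.Agent.OddHalf.CaseC.EndComp

end
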